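import Cfsg.Agent.H78.PMin.Big
import Cfsg.Agent.H78.PMin.Trans

/-!
Auxiliary lemmas for fixed points of Sylow subgroups of `p`-minimal groups with offenders.
-/

set_option autoImplicit false
set_option linter.unusedSectionVars false
set_option linter.style.haveILetI false

open Subgroup
open scoped commutatorElement
open H70 (cj)
open H78.PMin

namespace H80.MP

variable {G : Type*} [Group G] [Finite G] {p : ℕ} [Fact p.Prime]

theorem card_map_injOn {H : Type*} [Group H] (f : G →* H) {X : Subgroup G}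
    (hf : Set.InjOn f X) : Nat.card (X.map f) = Nat.card X :=
  Nat.card_image_of_injOn hf

theorem card_map_mul_ker {H : Type*} [Group H] (f : G →* H) {X : Subgroup G} (hX : f.ker ≤ X) :
    Nat.card X = Nat.card (X.map f) * Nat.card f.ker := by
  rw [Subgroup.card_eq_card_quotient_mul_card_subgroup (f.comp X.subtype).ker,
    Nat.card_congr (QuotientGroup.quotientKerEquivRange _).toEquiv, MonoidHom.range_comp,
    range_subtype]
  congr 1
  rw [← card_map_of_injective X.subtype_injective, ← MonoidHom.comap_ker, map_comap_eq,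
    range_subtype, inf_of_le_right hX]

theorem pm_map {H : Type*} [Group H] (f : G →* H) {P T M : Subgroup G} (hf : Set.InjOn f P)
    (h : PM p P T M) : PM p (P.map f) (T.map f) (M.map f) where
  sylow := ⟨map_mono h.T_le, by
    rw [card_map_injOn f hf, card_map_injOn f (hf.mono h.T_le)]; exact h.sylow.2⟩
  le_M := map_mono h.le_M
  M_le := map_mono h.M_le
  M_ne := fun he => h.M_ne <| le_antisymm h.M_le fun x hx => by
    obtain ⟨m, hm, hme⟩ := he.ge (mem_map_of_mem f hx)
    exact hf (h.M_le hm) hx hme ▸ hm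
  uniq := fun K hTK hKP hne => by
    have hK : K = (P ⊓ K.comap f).map f := le_antisymm (fun y hy => by
      obtain ⟨x, hx, rfl⟩ := hKP hy
      exact mem_map_of_mem f ⟨hx, hy⟩) (map_le_iff_le_comap.2 inf_le_right)
    rw [hK]
    refine map_mono (h.uniq _ (le_inf h.T_le (map_le_iff_le_comap.1 hTK)) inf_le_left fun he => ?_)
    rw [he] at hK
    exact hne hK
  not_norm := fun hn => h.not_norm <| H75.le_normalizer_of_conj fun x hx t ht => by
    obtain ⟨s, hs, hse⟩ := H75.conj_mem_of_mem_normalizer (hn (mem_map_of_mem f hx))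
      (mem_map_of_mem f ht)
    rw [← map_inv, ← map_mul, ← map_mul] at hse
    exact hf (h.T_le hs) (mul_mem (mul_mem hx (h.T_le ht)) (inv_mem hx)) hse ▸ hs

/-- A `p`-group acting on `V` fixes a coset of an invariant subgroup `X ≠ V` other than `X`. -/
theorem exists_fixed_coset {V X N : Subgroup G} (hV : Cfsg.IsElementaryAbelian p V)
    (hN : IsPGroup p N) (hNV : N ≤ normalizer (V : Set G)) (hNX : N ≤ normalizer (X : Set G))
    (hXV : X ≤ V) (hne : X ≠ V) :
    ∃ v ∈ V, v ∉ X ∧ ∀ n ∈ N, ⁅n, v⁆ ∈ X := by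
  haveI : IsMulCommutative ↥V := hV.1
  let Q := ↥V ⧸ X.subgroupOf V
  let act : ↥N → ↥V → ↥V := fun n v =>
    ⟨n * v * (n : G)⁻¹, H75.conj_mem_of_mem_normalizer (hNV n.2) v.2⟩
  have hact : ∀ n : ↥N, ∀ u v : ↥V, u⁻¹ * v ∈ X.subgroupOf V →
      (act n u)⁻¹ * act n v ∈ X.subgroupOf V := by
    intro n u v h
    rw [mem_subgroupOf] at h ⊢
    push_cast at h ⊢
    rw [show ((n : G) * u * (n : G)⁻¹)⁻¹ * ((n : G) * v * (n : G)⁻¹) =
      n * ((u : G)⁻¹ * v) * (n : G)⁻¹ by group]
    exact H75.conj_mem_of_mem_normalizer (hNX n.2) h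
  letI : MulAction ↥N Q :=
    { smul := fun n => Quotient.map' (act n) fun u v huv =>
        QuotientGroup.leftRel_apply.2 (hact n u v (QuotientGroup.leftRel_apply.1 huv))
      one_smul := fun q => Quotient.inductionOn' q fun v => by
        show QuotientGroup.mk (act 1 v) = QuotientGroup.mk v
        congr 1; exact Subtype.ext (by simp [act])
      mul_smul := fun n m q => Quotient.inductionOn' q fun v => by
        show QuotientGroup.mk (act (n * m) v) = QuotientGroup.mk (act n (act m v))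
        congr 1; exact Subtype.ext (by simp [act, mul_assoc]) }
  haveI : Finite Q := Quotient.finite _
  have hone : (QuotientGroup.mk 1 : Q) ∈ MulAction.fixedPoints ↥N Q := fun n => by
    show QuotientGroup.mk (act n 1) = _
    congr 1; exact Subtype.ext (by simp [act])
  have hVp : IsPGroup p ↥V := fun v => ⟨1, by rw [pow_one]; exact Subtype.ext (hV.2 _ v.2)⟩
  obtain ⟨k, hk⟩ := IsPGroup.iff_card.1 (hVp.to_quotient (X.subgroupOf V))
  have hcard : p ∣ Nat.card Q := by
    rcases Nat.eq_zero_or_pos k with h0 | hpos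
    · exfalso
      rw [h0, pow_zero] at hk
      exact hne (le_antisymm hXV fun v hv => by
        haveI : Subsingleton Q := (Nat.card_eq_one_iff_unique.1 hk).1
        have : (QuotientGroup.mk ⟨v, hv⟩ : Q) = QuotientGroup.mk 1 := Subsingleton.elim _ _
        rw [QuotientGroup.eq, mul_one, inv_mem_iff] at this
        exact this)
    · exact hk ▸ dvd_pow_self p hpos.ne'
  obtain ⟨q, hq, hqne⟩ := hN.exists_fixed_point_of_prime_dvd_card_of_fixed_point Q hcard hone
  obtain ⟨⟨v, hv⟩, rfl⟩ := QuotientGroup.mk_surjective q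
  refine ⟨v, hv, fun hvX => hqne ?_, fun n hn => ?_⟩
  · rw [QuotientGroup.eq]
    simpa [mem_subgroupOf] using hvX
  · have h1 : QuotientGroup.mk (act ⟨n, hn⟩ ⟨v, hv⟩) = (QuotientGroup.mk ⟨v, hv⟩ : Q) := hq ⟨n, hn⟩
    rw [eq_comm, QuotientGroup.eq, mem_subgroupOf] at h1
    have h2 : v⁻¹ * (n * v * n⁻¹) ∈ X := h1
    rwa [H10.comm_of_elem hV (inv_mem hv) (act ⟨n, hn⟩ ⟨v, hv⟩).2] at h2

/-- A `p`-group normalising a nontrivial elementary abelian group centralises some `d ≠ 1` in it. -/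
theorem exists_fixed_elem {D N : Subgroup G} (hD : Cfsg.IsElementaryAbelian p D)
    (hN : IsPGroup p N) (hND : N ≤ normalizer (D : Set G)) (hne : D ≠ ⊥) :
    ∃ d ∈ D, d ≠ 1 ∧ ∀ n ∈ N, n * d = d * n := by
  obtain ⟨d, hd, h1, h2⟩ := exists_fixed_coset (X := ⊥) hD hN hND
    (fun n _ => H75.le_normalizer_of_conj (K := N) (A := (⊥ : Subgroup G))
      (fun k _ a ha => by rw [Subgroup.mem_bot] at ha; simp [ha, one_mem]) ‹n ∈ N›)
    bot_le (Ne.symm hne)
  exact ⟨d, hd, fun h => h1 (h ▸ one_mem _),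
    fun n hn => commutatorElement_eq_one_iff_mul_comm.1 (Subgroup.mem_bot.1 (h2 n hn))⟩

/-- In prime order the commutator group of a member is cyclic of order at most `p`. -/
theorem brk_cyclic {V P T M A : Subgroup G} (c : Ctx p V P T M A) (hA : Nat.card A = p)
    {D : Subgroup G} (hD : Mem P A D) :
    ∃ z ∈ brk V D, (∀ d ∈ D, ∀ v ∈ V, ⁅d, v⁆ ∈ zpowers z) := by
  haveI : IsMulCommutative ↥V := c.env.elem.1
  have hDc : Nat.card D = p := (c.card_mem hD).trans hA
  haveI : Fact (Nat.card D).Prime := ⟨hDc ▸ Fact.out⟩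
  have hDP := (c.minOff hD).le
  obtain ⟨d₀, hd₀, hd1⟩ : ∃ d ∈ D, d ≠ 1 := by
    by_contra hno
    push Not at hno
    exact (c.minOff hD).ne ((Subgroup.eq_bot_iff_forall _).2 hno)
  have hfxp : p * Nat.card (fx V D) = Nat.card V := by rw [← hA]; exact c.card_fx hD
  obtain ⟨v₀, hv₀, hv₁⟩ : ∃ v ∈ V, v ∉ fx V D := by
    by_contra hno
    push Not at hno
    have h1 : Nat.card V ≤ Nat.card (fx V D) := Subgroup.card_le_of_le hno
    rw [← hfxp] at h1
    exact absurd h1 (not_le.2 (lt_mul_left Nat.card_pos (Fact.out : p.Prime).one_lt))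
  refine ⟨_, mem_brk hd₀ hv₀, fun d hd v hv => ?_⟩
  obtain ⟨j, hj⟩ := mem_zpowers_iff.1 (mem_zpowers_of_prime_card (G := D) (g := ⟨d₀, hd₀⟩)
    (g' := ⟨d, hd⟩) (p := p) hDc (fun h => hd1 (congrArg Subtype.val h)))
  have hjd : d₀ ^ j = d := by simpa using congrArg Subtype.val hj
  set z := ⁅d₀, v₀⁆
  let S : Subgroup G :=
    { carrier := {w | w ∈ V ∧ ⁅d₀, w⁆ ∈ zpowers z}
      one_mem' := ⟨one_mem _, by rw [commutatorElement_one_right]; exact one_mem _⟩
      mul_mem' := fun {u w} hu hw => ⟨mul_mem hu.1 hw.1, by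
        rw [comm_mul c.env.elem (c.norm_mem (hDP hd₀)) hu.1 hw.1]; exact mul_mem hu.2 hw.2⟩
      inv_mem' := fun {u} hu => ⟨inv_mem hu.1, by
        have h := comm_mul c.env.elem (c.norm_mem (hDP hd₀)) hu.1 (inv_mem hu.1)
        rw [mul_inv_cancel, commutatorElement_one_right] at h
        rw [eq_inv_of_mul_eq_one_right h.symm]
        exact inv_mem hu.2⟩ }
  have hSV : S ≤ V := fun w hw => hw.1
  have hfS : fx V D ≤ S := fun w hw => ⟨hw.1, by
    rw [commutatorElement_eq_one_iff_mul_comm.2 (fx_comm hw hd₀)]; exact one_mem _⟩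
  have hS : S = V := by
    refine Subgroup.eq_of_le_of_card_ge hSV ?_
    obtain ⟨a, ha⟩ := Subgroup.card_dvd_of_le hSV
    obtain ⟨e, he⟩ := Subgroup.card_dvd_of_le hfS
    have hpos : 0 < Nat.card (fx V D) := Nat.card_pos
    have hae : e * a = p := by
      rw [← hfxp, he] at ha
      exact Nat.eq_of_mul_eq_mul_left hpos (by rw [← mul_assoc, ← ha]; ring)
    rcases (Fact.out : p.Prime).eq_one_or_self_of_dvd e ⟨a, hae.symm⟩ with h | h
    · exfalso
      rw [h, mul_one] at he
      exact hv₁ ((Subgroup.eq_of_le_of_card_ge hfS he.le).ge ⟨hv₀, mem_zpowers z⟩)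
    · rw [← hfxp, he, h, mul_comm]
  have hv' : ⁅d₀, v⁆ ∈ zpowers z := (hS ▸ hv : v ∈ S).2
  obtain ⟨k, hk⟩ := (isOfFinOrder_of_finite d₀).mem_powers_iff_mem_zpowers.2 ⟨j, rfl⟩
  have hkd : d₀ ^ k = d := hk.trans hjd
  rw [← hkd]
  clear hk hkd
  induction k with
  | zero => rw [pow_zero, commutatorElement_one_left]; exact one_mem _
  | succ k ih =>
    rw [pow_succ', show ⁅d₀ * d₀ ^ k, v⁆ = d₀ * ⁅d₀ ^ k, v⁆ * d₀⁻¹ * ⁅d₀, v⁆ by
      simp only [commutatorElement_def]; group,
      fx_conj (c.quad hD _ (pow_mem hd₀ k) v hv) hd₀]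
    exact mul_mem ih hv'

end H80.MP
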