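import Cfsg.Agent.H80.MP.Basic

/-!
A central extension of a module: a minimal offender on `V` is a minimal offender on the quotient
of `V` by fixed points, and its fixed points lift.
-/

set_option autoImplicit false
set_option linter.unusedSectionVars false
set_option linter.style.haveILetI false

open Subgroup
open scoped commutatorElement MatrixGroups
open H70 (cj)
open H78.PMin

namespace H80.MP

variable {G H : Type*} [Group G] [Finite G] [Group H] [Finite H] {p : ℕ} [Fact p.Prime]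

/-- A quotient map of `V` by a subgroup fixed by `P`, with the configuration upstairs and down. -/
structure Ext (p : ℕ) (f : G →* H) (V P T M A : Subgroup G) : Prop where
  elem : Cfsg.IsElementaryAbelian p V
  norm : P ≤ normalizer (V : Set G)
  faith : P ⊓ centralizer (V : Set G) = ⊥
  ker_le : f.ker ≤ V
  ker_cent : f.ker ≤ centralizer (P : Set G)
  env : Env p (V.map f) (P.map f) (T.map f) (M.map f)
  faith' : P.map f ⊓ centralizer ((V.map f : Subgroup H) : Set H) = ⊥
  off : MinOff p V P A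
  A_le : A ≤ T
  T_le : T ≤ P

namespace Ext

variable {f : G →* H} {V P T M A : Subgroup G} (e : Ext p f V P T M A)
include e

theorem inj : Set.InjOn f P := by
  intro x hx y hy hxy
  replace hx : x ∈ P := hx
  replace hy : y ∈ P := hy
  have hk : x⁻¹ * y ∈ f.ker := by rw [MonoidHom.mem_ker, map_mul, map_inv, hxy, inv_mul_cancel]
  have h1 : x⁻¹ * y ∈ P ⊓ centralizer (V : Set G) :=
    Subgroup.mem_inf.2 ⟨mul_mem (inv_mem hx) hy, mem_centralizer_iff.2 fun v hv =>
      H10.comm_of_elem e.elem hv (e.ker_le hk)⟩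
  rw [e.faith, Subgroup.mem_bot] at h1
  exact inv_mul_eq_one.1 h1

theorem A_P : A ≤ P := e.off.le

theorem card_map {X : Subgroup G} (hX : X ≤ P) : Nat.card (X.map f) = Nat.card X :=
  card_map_injOn f (e.inj.mono hX)

theorem comm_of_map {x y : G} (hx : x ∈ P) (hy : y ∈ P) (h : f x * f y = f y * f x) :
    x * y = y * x :=
  e.inj (mul_mem hx hy) (mul_mem hy hx) (by rw [map_mul, map_mul, h])

theorem ker_fx {X : Subgroup G} (hX : X ≤ P) : f.ker ≤ fx V X := fun z hz =>
  ⟨e.ker_le hz, centralizer_le (SetLike.coe_subset_coe.2 hX) (e.ker_cent hz)⟩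

theorem card_fx_map {X : Subgroup G} (hX : X ≤ P) :
    Nat.card (fx V X) = Nat.card ((fx V X).map f) * Nat.card f.ker :=
  card_map_mul_ker f (e.ker_fx hX)

theorem quad_A : ∀ a ∈ A, ∀ v ∈ V, ⁅a, v⁆ ∈ fx V A :=
  quad_of_strict e.elem (e.A_P.trans e.norm) e.off.elem (e.off.not_le e.faith) e.off.off
    fun B hB h1 h2 => (e.off.strict B hB h1 h2).trans_le e.off.off

theorem map_elem {X : Subgroup G} (h : Cfsg.IsElementaryAbelian p X) :
    Cfsg.IsElementaryAbelian p (X.map f) := by
  refine ⟨⟨⟨?_⟩⟩, ?_⟩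
  · rintro ⟨_, a, ha, rfl⟩ ⟨_, b, hb, rfl⟩
    exact Subtype.ext (show f a * f b = f b * f a by
      rw [← map_mul, H10.comm_of_elem h ha hb, map_mul])
  · rintro _ ⟨a, ha, rfl⟩
    rw [← map_pow, h.2 a ha, map_one]

/-- The image of a minimal offender is an offender, and its fixed points are images. -/
theorem exact_A : Nat.card (V.map f) ≤ Nat.card (A.map f) * Nat.card (fx (V.map f) (A.map f)) ∧
    fx (V.map f) (A.map f) = (fx V A).map f := by
  have hle : (fx V A).map f ≤ fx (V.map f) (A.map f) := by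
    rintro _ ⟨v, hv, rfl⟩
    refine ⟨mem_map_of_mem f hv.1, mem_centralizer_iff.2 ?_⟩
    rintro _ ⟨a, ha, rfl⟩
    rw [← map_mul, fx_comm hv ha, map_mul]
  have h1 : Nat.card (V.map f) ≤ Nat.card (A.map f) * Nat.card ((fx V A).map f) := by
    have h := e.off.off
    rw [e.card_fx_map e.A_P, card_map_mul_ker f e.ker_le, ← mul_assoc] at h
    rw [e.card_map e.A_P]
    exact Nat.le_of_mul_le_mul_right h Nat.card_pos
  refine ⟨h1.trans (Nat.mul_le_mul_left _ (Subgroup.card_le_of_le hle)), ?_⟩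
  have h2 := e.env.exact (map_mono e.A_P) (e.map_elem e.off.elem)
  rw [show A.map f ⊓ centralizer ((V.map f : Subgroup H) : Set H) = ⊥ from le_bot_iff.1
    ((inf_le_inf_right _ (map_mono e.A_P)).trans e.faith'.le), Subgroup.card_bot, one_mul] at h2
  exact (Subgroup.eq_of_le_of_card_ge hle
    (Nat.le_of_mul_le_mul_left (h2.trans h1) Nat.card_pos)).symm

/-- Vectors whose images a subgroup of `A` fixes are fixed by it, if that subgroup maps to a
minimal offender. -/
theorem lifted {B : Subgroup H} (hB : MinOff p (V.map f) (P.map f) B) (hBA : B ≤ A.map f) :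
    fx (V.map f) B ≤ (fx V (A ⊓ B.comap f)).map f := by
  classical
  let c : Ctx p (V.map f) (P.map f) (T.map f) (M.map f) B := ⟨e.env, e.faith', hB⟩
  have hW := e.env.elem
  set W := V.map f with hWdef
  set B₀ := A ⊓ B.comap f with hB₀
  have hB₀A : B₀ ≤ A := inf_le_left
  have hB₀P : B₀ ≤ P := hB₀A.trans e.A_P
  set K := (fx V B₀).map f with hKdef
  have hKW : K ≤ W := map_mono inf_le_left
  have hBP : B ≤ P.map f := hB.le
  have hmem : ∀ {b : H}, b ∈ B → ∃ a ∈ B₀, f a = b := by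
    intro b hb
    obtain ⟨a, ha, rfl⟩ := hBA hb
    exact ⟨a, ⟨ha, hb⟩, rfl⟩
  -- membership in `K` via a preimage
  have hKintro : ∀ {v : G}, v ∈ V → (∀ a ∈ B₀, a * v = v * a) → f v ∈ K := fun hv h =>
    mem_map_of_mem f ⟨hv, mem_centralizer_iff.2 h⟩
  have hAK : fx W (A.map f) ≤ K := by
    rw [e.exact_A.2]; exact map_mono (fx_anti hB₀A)
  have hbrkB : ∀ b ∈ B, ∀ w ∈ W, ⁅b, w⁆ ∈ K := by
    rintro b hb _ ⟨v, hv, rfl⟩
    obtain ⟨a, ha, rfl⟩ := hmem hb
    rw [← map_commutatorElement]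
    exact map_mono (fx_anti hB₀A) (mem_map_of_mem f (e.quad_A a (hB₀A ha) v hv))
  -- commutators with elements centralising `B`
  have hinv : ∀ g ∈ P.map f, (∀ b ∈ B, b * g = g * b) → ∀ w ∈ fx W B, ⁅g, w⁆ ∈ K := by
    rintro _ ⟨x, hx, rfl⟩ hgB _ ⟨⟨v, hv, rfl⟩, hwB⟩
    rw [← map_commutatorElement]
    refine hKintro (mul_mem (H75.conj_mem_of_mem_normalizer (e.norm hx) hv) (inv_mem hv))
      fun a ha => ?_
    have hxa : a * x = x * a := e.comm_of_map (hB₀P ha) hx (hgB _ ha.2)
    -- `z` is the defect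
    set z := a * v * a⁻¹ * v⁻¹ with hz
    have hzk : z ∈ f.ker := by
      rw [MonoidHom.mem_ker, hz, map_mul, map_mul, map_mul, map_inv, map_inv,
        mem_centralizer_iff.1 hwB _ ha.2, mul_inv_cancel_right, mul_inv_cancel]
    have hzx : x * z = z * x := mem_centralizer_iff.1 (e.ker_cent hzk) x hx
    have hav : a * v * a⁻¹ = z * v := by rw [hz]; group
    have hxv : x * v * x⁻¹ ∈ V := H75.conj_mem_of_mem_normalizer (e.norm hx) hv
    have h1 : a * (x * v * x⁻¹) * a⁻¹ = z * (x * v * x⁻¹) := by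
      calc a * (x * v * x⁻¹) * a⁻¹ = (a * x) * v * (a * x)⁻¹ := by group
        _ = (x * a) * v * (x * a)⁻¹ := by rw [hxa]
        _ = x * (a * v * a⁻¹) * x⁻¹ := by group
        _ = (x * z) * v * x⁻¹ := by rw [hav]; group
        _ = (z * x) * v * x⁻¹ := by rw [hzx]
        _ = _ := by group
    refine mul_inv_eq_iff_eq_mul.1 ?_
    rw [commutatorElement_def,
      show a * (x * v * x⁻¹ * v⁻¹) * a⁻¹ = a * (x * v * x⁻¹) * a⁻¹ * (a * v * a⁻¹)⁻¹ by group,
      h1, hav, H10.comm_of_elem e.elem (e.ker_le hzk) hxv,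
      H10.comm_of_elem e.elem (e.ker_le hzk) hv]
    group
  obtain ⟨L, g₀, -, -, -, hLP, F, iF, iFf, hq, ⟨b⟩⟩ := c.exists_block c.self_mem
  have hquad := c.quad c.self_mem
  by_cases hperf : ∃ t : Fˣ, (t : F) * t ≠ 1
  · -- the block is perfect
    obtain ⟨t, ht⟩ := hperf
    have hU : fx W L ≤ K := by
      rintro _ ⟨⟨v, hv, rfl⟩, hvL⟩
      refine hKintro hv fun a ha => ?_
      have hab : f a ∈ B := ha.2
      obtain ⟨h, hh, hhe⟩ := hLP (b.tor t).2
      obtain ⟨r, hr, hre⟩ := hBP (b.root_mem (((t : F) * t - 1)⁻¹ * b.par hab))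
      have hae : a = ⁅h, r⁆ := by
        refine e.inj (hB₀P ha) (mul_mem (mul_mem (mul_mem hh hr) (inv_mem hh)) (inv_mem hr)) ?_
        show f a = f ⁅h, r⁆
        rw [map_commutatorElement, hhe, hre]
        have key : b.ρ ⟨f a, b.le hab⟩ =
            b.ρ ⁅b.tor t, b.root (((t : F) * t - 1)⁻¹ * b.par hab)⁆ := by
          rw [map_commutatorElement, b.par_spec hab, b.root_spec,
            show b.ρ (b.tor t) = _ from b.ρ.apply_symm_apply _, commutatorElement_def,
            eq_mul_inv_iff_mul_eq, eq_mul_inv_iff_mul_eq]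
          refine Subtype.ext ?_
          ext i j
          have ht0 : (t : F) * t - 1 ≠ 0 := sub_ne_zero.2 ht
          fin_cases i <;> fin_cases j <;>
            simp [H78.Nat2.coe_hh, H98.coe_uu, Matrix.mul_apply, Fin.sum_univ_two]
          have hi := inv_mul_cancel₀ ht0
          field_simp
          linear_combination (-b.par hab) * hi
        simpa [commutatorElement_def] using congrArg Subtype.val (b.ρ.injective key)
      have hdef : ∀ x, x ∈ P → f x ∈ L → ⁅x, v⁆ ∈ f.ker := fun x _ hx => by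
        rw [MonoidHom.mem_ker, map_commutatorElement, commutatorElement_eq_one_iff_mul_comm]
        exact mem_centralizer_iff.1 hvL _ hx
      have hzh := hdef h hh (hhe ▸ (b.tor t).2)
      have hzr := hdef r hr (hre ▸ b.le (b.root_mem _))
      set zh := ⁅h, v⁆ with hzhdef
      set zr := ⁅r, v⁆ with hzrdef
      -- conjugation of a coset of the kernel
      have hmv : ∀ x ∈ P, ∀ z ∈ f.ker, x * (z * v) * x⁻¹ = z * (x * v * x⁻¹) ∧
          x⁻¹ * (z * v) * x = z * (x⁻¹ * v * x) := by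
        intro x hx z hz
        have c1 : x * z = z * x := mem_centralizer_iff.1 (e.ker_cent hz) x hx
        have c2 : x⁻¹ * z = z * x⁻¹ := mem_centralizer_iff.1 (e.ker_cent hz) _ (inv_mem hx)
        exact ⟨by rw [← mul_assoc x z v, c1]; group, by rw [← mul_assoc x⁻¹ z v, c2]; group⟩
      have hhv : h * v * h⁻¹ = zh * v := by rw [hzhdef, commutatorElement_def]; group
      have hrv : r * v * r⁻¹ = zr * v := by rw [hzrdef, commutatorElement_def]; group
      have hhv' : h⁻¹ * v * h = zh⁻¹ * v := by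
        have h1 := (hmv h hh zh⁻¹ (inv_mem hzh)).1
        rw [hhv, inv_mul_cancel_left] at h1
        calc h⁻¹ * v * h = h⁻¹ * (h * (zh⁻¹ * v) * h⁻¹) * h := by rw [h1]
          _ = _ := by group
      have hrv' : r⁻¹ * v * r = zr⁻¹ * v := by
        have h1 := (hmv r hr zr⁻¹ (inv_mem hzr)).1
        rw [hrv, inv_mul_cancel_left] at h1
        calc r⁻¹ * v * r = r⁻¹ * (r * (zr⁻¹ * v) * r⁻¹) * r := by rw [h1]
          _ = _ := by group
      have c3 : zr⁻¹ * zh⁻¹ * zr = zh⁻¹ := by
        rw [mul_assoc, H10.comm_of_elem e.elem (e.ker_le (inv_mem hzh)) (e.ker_le hzr),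
          inv_mul_cancel_left]
      have h3 : a * v * a⁻¹ = v := by
        rw [hae, commutatorElement_def]
        calc h * r * h⁻¹ * r⁻¹ * v * (h * r * h⁻¹ * r⁻¹)⁻¹
            = h * (r * (h⁻¹ * (r⁻¹ * v * r) * h) * r⁻¹) * h⁻¹ := by group
          _ = h * (r * (zr⁻¹ * zh⁻¹ * v) * r⁻¹) * h⁻¹ := by
            rw [hrv', (hmv h hh _ (inv_mem hzr)).2, hhv']; group
          _ = h * (zh⁻¹ * v) * h⁻¹ := by
            rw [(hmv r hr _ (mul_mem (inv_mem hzr) (inv_mem hzh))).1, hrv,
              ← mul_assoc (zr⁻¹ * zh⁻¹) zr v, c3]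
          _ = v := by rw [(hmv h hh _ (inv_mem hzh)).1, hhv, inv_mul_cancel_left]
      exact mul_inv_eq_iff_eq_mul.1 h3
    intro w hw
    obtain ⟨a, ha, x, hx, c₀, hc₀, rfl⟩ := b.fx_decomp hquad hw
    exact mul_mem (hbrkB a ha x hx) (hU hc₀)
  -- blocks over a field of two or three elements
  push Not at hperf
  have hq3 : Fintype.card F ≤ 3 := by
    by_contra h4
    have hsub : (Finset.univ : Finset F) ⊆ {0, 1, -1} := fun x _ => by
      by_cases hx : x = 0
      · simp [hx]
      · have h1 : x * x = 1 := hperf (Units.mk0 x hx)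
        rcases mul_self_eq_one_iff.1 h1 with h | h <;> simp [h]
    have h5 := (Finset.card_le_card hsub).trans Finset.card_le_three
    rw [Finset.card_univ] at h5
    exact h4 h5
  have hBp : Nat.card B = p := by
    obtain ⟨k, hk⟩ := IsPGroup.iff_card.1 hB.pgroup
    have h1 : 1 < Nat.card B := (one_lt_card_iff_ne_bot _).2 hB.ne
    rw [← hq] at h1 hk ⊢
    rcases k with _ | _ | k
    · simp only [pow_zero] at hk; omega
    · rw [hk]; ring
    · have h2 : 2 * 2 ≤ p ^ 2 := by
        have := (Fact.out : p.Prime).two_le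
        nlinarith
      have h3 : p ^ 2 ≤ p ^ (k + 1 + 1) := Nat.pow_le_pow_right (Fact.out : p.Prime).pos (by omega)
      omega
  set Y := b.opp with hYdef
  have hYm : Mem (P.map f) B Y := c.opp_mem b hLP c.self_mem
  have hquadY := c.quad hYm
  set R := brk W B ⊔ brk W Y with hR
  have hnW : ∀ {D : Subgroup H}, D ≤ P.map f → brk W D ≤ W := fun hD =>
    brk_le fun d hd w hw => mul_mem (c.conj_V (hD hd) hw) (inv_mem hw)
  have hRW : R ≤ W := sup_le (hnW hBP) (hnW (c.minOff hYm).le)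
  have hbrkBK : brk W B ≤ K := brk_le hbrkB
  -- `L` acts trivially modulo `R`
  have hLR : ∀ l ∈ L, ∀ w ∈ W, ⁅l, w⁆ ∈ R := by
    have hRn : L ≤ normalizer (R : Set H) := by
      refine b.sup_opp.ge.trans (sup_le ?_ ?_) <;>
        refine H75.le_normalizer_of_conj fun d hd z hz => ?_
      · have := mul_mem (mem_sup_left (T := brk W Y) (mem_brk (D := B) hd (hRW hz))) hz
        rwa [commutatorElement_def, inv_mul_cancel_right] at this
      · have := mul_mem (mem_sup_right (S := brk W B) (mem_brk (D := Y) hd (hRW hz))) hz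
        rwa [commutatorElement_def, inv_mul_cancel_right] at this
    let S : Subgroup H :=
      { carrier := {l | l ∈ L ∧ ∀ w ∈ W, ⁅l, w⁆ ∈ R}
        one_mem' := ⟨one_mem _, fun w _ => by rw [commutatorElement_one_left]; exact one_mem _⟩
        mul_mem' := by
          rintro l m ⟨hl, hl'⟩ ⟨hm, hm'⟩
          refine ⟨mul_mem hl hm, fun w hw => ?_⟩
          rw [show ⁅l * m, w⁆ = l * ⁅m, w⁆ * l⁻¹ * ⁅l, w⁆ by
            simp only [commutatorElement_def]; group]
          exact mul_mem (H75.conj_mem_of_mem_normalizer (hRn hl) (hm' w hw)) (hl' w hw)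
        inv_mem' := by
          rintro l ⟨hl, hl'⟩
          refine ⟨inv_mem hl, fun w hw => ?_⟩
          rw [show ⁅l⁻¹, w⁆ = ⁅l, l⁻¹ * w * l⁆⁻¹ by simp only [commutatorElement_def]; group]
          exact inv_mem (hl' _ (by simpa using b.conj_mem (inv_mem hl) hw)) }
    have hLS : L ≤ S := b.sup_opp.ge.trans (sup_le
      (fun l hl => ⟨b.le hl, fun w hw => mem_sup_left (mem_brk hl hw)⟩)
      (fun l hl => ⟨b.opp_le hl, fun w hw => mem_sup_right (mem_brk hl hw)⟩))
    exact fun l hl => (hLS hl).2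
  -- `R` meets the axis inside `K`
  have hRK : R ⊓ fx W B ≤ K := by
    obtain ⟨z, hz, hzc⟩ := brk_cyclic c hBp hYm
    rintro _ ⟨hrR, hrB⟩
    obtain ⟨x, hx, y, hy, rfl⟩ := H10.exists_mul_of_mem_sup
      (le_normalizer_of_le_elem hW (hnW hBP) (hnW (c.minOff hYm).le)) hrR
    have hyB : y ∈ fx W B := by
      have h1 := mul_mem (inv_mem (c.brk_fx c.self_mem hx)) hrB
      rwa [inv_mul_cancel_left] at h1
    suffices hy1 : y = 1 by rw [hy1, mul_one]; exact hbrkBK hx
    by_contra hy1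
    obtain ⟨j, rfl⟩ := mem_zpowers_iff.1 ((brk_le hzc : brk W Y ≤ zpowers z) hy)
    have hzB : z ∈ fx W B := by
      have hi : ¬ (p : ℤ) ∣ j := fun ⟨i, hi⟩ => hy1 (by
        rw [hi, zpow_mul, zpow_natCast, hW.2 z (hnW (c.minOff hYm).le hz), one_zpow])
      obtain ⟨r, s, hrs⟩ := (((Nat.prime_iff_prime_int.1 Fact.out).coprime_iff_not_dvd.2 hi).symm :
        IsCoprime j (p : ℤ))
      have h2 : z = (z ^ j) ^ r := by
        rw [← zpow_mul, show j * r = 1 - (p : ℤ) * s by linarith [hrs, mul_comm r j, mul_comm s (p : ℤ)],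
          zpow_sub, zpow_one, zpow_mul, zpow_natCast, hW.2 z (hnW (c.minOff hYm).le hz), one_zpow,
          inv_one, mul_one]
      rw [h2]; exact zpow_mem hyB r
    have hzL : z ∈ fx W L := by
      rw [b.fx_eq]
      exact ⟨hzB, c.brk_fx hYm hz⟩
    have hYL : brk W Y ≤ fx W L := (brk_le hzc).trans (zpowers_le.2 hzL)
    obtain ⟨v, hv, hvB⟩ : ∃ v ∈ W, v ∉ fx W B := by
      by_contra hno
      push Not at hno
      exact hB.not_le e.faith' fun d hd => mem_centralizer_iff.2 fun v hv =>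
        (fx_comm (hno v hv) hd).symm
    obtain ⟨a, ha, ha1⟩ : ∃ a ∈ B, a ≠ 1 := by
      by_contra hno
      push Not at hno
      exact hB.ne ((Subgroup.eq_bot_iff_forall _).2 hno)
    have hwL := b.weyl.2
    have h3 : cj (b.weyl : H) (brk W B) ≤ fx W L := by
      rw [cj_brk (b.norm hwL)]; exact hYL
    have h4 : (b.weyl : H) * ⁅a, v⁆ * (b.weyl : H)⁻¹ ∈ fx W L :=
      h3 (H70.mem_cj.2 (by simpa [mul_assoc] using mem_brk (V := W) ha hv))
    have h5 : ⁅a, v⁆ ∈ fx W L := by
      have h6 := fx_conj h4 (inv_mem hwL)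
      rw [show (b.weyl : H)⁻¹ * ((b.weyl : H) * ⁅a, v⁆ * (b.weyl : H)⁻¹) * (b.weyl : H)⁻¹⁻¹ =
        ⁅a, v⁆ by group] at h6
      rwa [← h6] at h4
    exact hvB ((b.mem_fx_iff hquad hv).2 (b.snd_zero_of_commute ha ha1 hv h5))
  -- the commutators of all members
  have hcomm : ∀ {D : Subgroup H}, Mem (P.map f) B D → D ≠ B → Ctx.Comm B D →
      ∀ d ∈ D, ∀ w ∈ W, ⁅d, w⁆ ∈ K := by
    intro D hD hne hc d hd w hw
    obtain ⟨-, -, -, hsup, -⟩ := c.comm_facts c.self_mem hD hne.symm hc
    rw [← hsup] at hw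
    obtain ⟨x, hx, y, hy, rfl⟩ := H10.exists_mul_of_mem_sup
      (le_normalizer_of_le_elem hW inf_le_left inf_le_left) hw
    rw [comm_mul hW (c.norm_mem ((c.minOff hD).le hd)) hx.1 hy.1,
      commutatorElement_eq_one_iff_mul_comm.2 (fx_comm hy hd), mul_one]
    exact hinv d ((c.minOff hD).le hd) (fun z hz => hc z hz d hd) x hx
  have hmemb : ∀ {D : Subgroup H}, Mem (P.map f) B D → brk W D ≤ K ⊔ R := by
    intro D hD
    obtain ⟨z, hz, hzc⟩ := brk_cyclic c hBp hD
    have hzW : z ∈ W := hnW (c.minOff hD).le hz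
    obtain ⟨g, hg⟩ : ∃ g : SL(2, F),
        ((g : Matrix (Fin 2) (Fin 2) F).mulVec (b.ψ z)) 1 = 0 := by
      by_cases h0 : b.ψ z 0 = 0
      · exact ⟨H78.Nat2.ww, by simp [H78.Nat2.coe_ww, Matrix.mulVec, dotProduct, h0]⟩
      · refine ⟨H98.ll (-(b.ψ z 1) / b.ψ z 0), ?_⟩
        simp [H98.coe_ll, Matrix.mulVec, dotProduct, div_mul_cancel₀, h0]
    set l : L := b.ρ.symm g with hl
    set k : H := (l : H)
    have hkP : k ∈ P.map f := hLP l.2
    set D' := cj k D with hD'
    have hD'm : Mem (P.map f) B D' := c.cj_mem hD hkP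
    have hconjmem : ∀ {x}, x ∈ W → k * x * k⁻¹ ∈ W := fun hx => b.conj_mem l.2 hx
    have hmov : ∀ d ∈ D', ∀ w ∈ W, ⁅d, w⁆ ∈ fx W B := by
      intro d hd w hw
      have hd' := H70.mem_cj.1 hd
      have hw' : k⁻¹ * w * k ∈ W := by simpa using b.conj_mem (inv_mem l.2) hw
      obtain ⟨j, hj⟩ := mem_zpowers_iff.1 (hzc _ hd' _ hw')
      have hzj : z ^ j ∈ W := zpow_mem hzW j
      have e1 : ⁅d, w⁆ = k * z ^ j * k⁻¹ := by
        rw [hj]; simp only [commutatorElement_def]; group
      rw [e1, b.mem_fx_iff hquad (hconjmem hzj)]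
      let S : Subgroup H :=
        { carrier := {x | x ∈ W ∧ ((g : Matrix (Fin 2) (Fin 2) F).mulVec (b.ψ x)) 1 = 0}
          one_mem' := ⟨one_mem _, by rw [b.map_one, Matrix.mulVec_zero]; rfl⟩
          mul_mem' := fun {x y} hx hy => ⟨mul_mem hx.1 hy.1, by
            rw [b.map_mul _ hx.1 _ hy.1, Matrix.mulVec_add, Pi.add_apply, hx.2, hy.2, add_zero]⟩
          inv_mem' := fun {x} hx => ⟨inv_mem hx.1, by
            rw [b.map_inv hx.1, Matrix.mulVec_neg, Pi.neg_apply, hx.2, neg_zero]⟩ }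
      rw [b.equiv l _ hzj, hl, b.ρ.apply_symm_apply]
      exact (zpow_mem (show z ∈ S from ⟨hzW, hg⟩) j).2
    have hD'K : ∀ d ∈ D', ∀ w ∈ W, ⁅d, w⁆ ∈ K := by
      by_cases he : D' = B
      · rw [he]; exact hbrkB
      · exact hcomm hD'm he (c.comm_of_le c.self_mem hD'm hmov)
    refine brk_le fun d hd w hw => ?_
    have hd' : k * d * k⁻¹ ∈ D' := H70.mem_cj.2 (by simpa [mul_assoc] using hd)
    set u := ⁅k * d * k⁻¹, k * w * k⁻¹⁆ with hu
    have huK : u ∈ K := hD'K _ hd' _ (hconjmem hw)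
    have e1 : ⁅d, w⁆ = ⁅k⁻¹, u⁆ * u := by rw [hu]; simp only [commutatorElement_def]; group
    rw [e1]
    exact mul_mem (mem_sup_right (hLR _ (inv_mem l.2) u (hKW huK))) (mem_sup_left huK)
  -- an invariant submodule containing the fixed points
  set W' := fx W (T.map f) ⊔ ⨆ D : {D : Subgroup H // Mem (P.map f) B D}, brk W D.1 with hW'
  have hW'W : W' ≤ W := sup_le inf_le_left (iSup_le fun D => hnW (c.minOff D.2).le)
  have hTA : fx W (T.map f) ≤ fx W (A.map f) := fx_anti (map_mono e.A_le)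
  have hPW : P.map f ≤ normalizer (W' : Set H) := by
    set N := P.map f ⊓ normalizer (W' : Set H)
    have hTN : T.map f ≤ N := by
      refine le_inf (map_mono e.T_le) fun t ht => ?_
      have htP : t ∈ P.map f := map_mono e.T_le ht
      refine mem_normalizer_iff_cj.2 (H70.eq_of_cj_le ?_)
      rw [hW', H70.cj, Subgroup.map_sup, Subgroup.map_iSup]
      refine sup_le_sup ?_ (iSup_le fun D => ?_)
      · rintro _ ⟨x, hx, rfl⟩
        show t * x * t⁻¹ ∈ _
        rwa [fx_conj hx ht]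
      · refine le_trans ?_ (le_iSup _ (⟨cj t D.1, c.cj_mem D.2 htP⟩ :
          {D : Subgroup H // Mem (P.map f) B D}))
        exact (cj_brk (c.norm_mem htP)).le
    have hmN : ∀ D, Mem (P.map f) B D → D ≤ N := fun D hD =>
      le_inf (c.minOff hD).le <| H75.le_normalizer_of_conj fun d hd z hz => by
        have h1 : ⁅d, z⁆ ∈ W' := mem_sup_right
          (mem_iSup_of_mem (⟨D, hD⟩ : {D : Subgroup H // Mem (P.map f) B D})
            (mem_brk hd (hW'W hz)))
        have := mul_mem h1 hz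
        rwa [commutatorElement_def, inv_mul_cancel_right] at this
    by_contra hno
    have h1 := e.env.pm.uniq N hTN inf_le_left fun he => hno (inf_eq_left.1 he)
    set R' := ⨆ D : {D : Subgroup H // Mem (P.map f) B D}, D.1
    have hRn : P.map f ≤ normalizer (R' : Set H) := fun k hk => by
      refine mem_normalizer_iff_cj.2 (H70.eq_of_cj_le ?_)
      rw [H70.cj, Subgroup.map_iSup]
      exact iSup_le fun D => le_iSup (fun D : {D : Subgroup H // Mem (P.map f) B D} => D.1)
        ⟨cj k D.1, c.cj_mem D.2 hk⟩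
    have h2 := e.env.pm.core (iSup_le fun D => (hmN _ D.2).trans h1) hRn hB.pgroup
      (le_iSup (fun D : {D : Subgroup H // Mem (P.map f) B D} => D.1) ⟨B, c.self_mem⟩)
    exact hB.ne (le_bot_iff.1 (h2.trans c.core_bot.le))
  have henv : Env p W' (P.map f) (T.map f) (M.map f) :=
    { elem := H10.elementaryAbelian_of_le hW hW'W
      norm := hPW
      pm := e.env.pm
      core_le := by rw [c.core_bot]; exact bot_le
      hyp := by
        rw [show fx W' (T.map f) = fx W (T.map f) from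
          le_antisymm (inf_le_inf_right _ hW'W) (le_inf le_sup_left inf_le_right)]
        exact e.env.hyp }
  have hsplit : W ≤ W' ⊔ fx W (A.map f) := by
    have hA'P : A.map f ≤ P.map f := map_mono e.A_P
    have hAel := e.map_elem e.off.elem
    have hAp : IsPGroup p ↥(A.map f) := e.off.pgroup.map f
    have h1 := henv.exact hA'P hAel
    rw [show A.map f ⊓ centralizer (W' : Set H) = ⊥ from le_bot_iff.1 ((henv.kernel_le
      (inf_le_left.trans hA'P) hAp.to_inf_left inf_le_right).trans c.core_bot.le),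
      Subgroup.card_bot, one_mul] at h1
    have h2 := e.exact_A.1
    set S := W' ⊔ fx W (A.map f)
    have hSW : S ≤ W := sup_le hW'W inf_le_left
    have h3 := H10.card_mul_card_inf
      (le_normalizer_of_le_elem hW hW'W (inf_le_left : fx W (A.map f) ≤ W))
    rw [show W' ⊓ fx W (A.map f) = fx W' (A.map f) from le_antisymm
      (fun x hx => ⟨hx.1, hx.2.2⟩) (fun x hx => ⟨hx.1, hW'W hx.1, hx.2⟩)] at h3
    have h4 : Nat.card W * Nat.card (fx W' (A.map f)) ≤
        Nat.card S * Nat.card (fx W' (A.map f)) := by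
      rw [h3]
      calc Nat.card W * Nat.card (fx W' (A.map f))
          ≤ Nat.card (A.map f) * Nat.card (fx W (A.map f)) * Nat.card (fx W' (A.map f)) :=
            Nat.mul_le_mul_right _ h2
        _ = Nat.card (fx W (A.map f)) * (Nat.card (A.map f) * Nat.card (fx W' (A.map f))) := by
            ring
        _ ≤ Nat.card (fx W (A.map f)) * Nat.card W' := Nat.mul_le_mul_left _ h1
        _ = _ := by ring
    exact (Subgroup.eq_of_le_of_card_ge hSW (Nat.le_of_mul_le_mul_right h4 Nat.card_pos)).ge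
  have hWKR : W ≤ K ⊔ R := hsplit.trans (sup_le
    (sup_le ((hTA.trans hAK).trans le_sup_left) (iSup_le fun D => hmemb D.2))
    (hAK.trans le_sup_left))
  intro w hw
  obtain ⟨x, hx, y, hy, rfl⟩ := H10.exists_mul_of_mem_sup
    (le_normalizer_of_le_elem hW hKW hRW) (hWKR hw.1)
  have hxB : x ∈ fx W B := by
    obtain ⟨v, hv, rfl⟩ := hx
    refine ⟨mem_map_of_mem f hv.1, mem_centralizer_iff.2 fun d hd => ?_⟩
    obtain ⟨a, ha, rfl⟩ := hmem hd
    rw [← map_mul, fx_comm hv ha, map_mul]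
  have hyB : y ∈ fx W B := by
    have := mul_mem (inv_mem hxB) hw
    rwa [inv_mul_cancel_left] at this
  exact mul_mem hx (hRK ⟨hy, hyB⟩)

/-- The image of a minimal offender is a minimal offender. -/
theorem minOff_map : MinOff p (V.map f) (P.map f) (A.map f) := by
  classical
  have hel := e.map_elem e.off.elem
  have hne : A.map f ≠ ⊥ := by
    rw [← one_lt_card_iff_ne_bot, e.card_map e.A_P]
    exact (one_lt_card_iff_ne_bot _).2 e.off.ne
  obtain ⟨B, ⟨hBA, hBne, hBoff⟩, hmin⟩ := Set.Finite.exists_minimalFor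
    (fun B : Subgroup H => Nat.card B)
    {B : Subgroup H | B ≤ A.map f ∧ B ≠ ⊥ ∧
      Nat.card (V.map f) ≤ Nat.card B * Nat.card (fx (V.map f) B)} (Set.toFinite _)
    ⟨_, le_rfl, hne, e.exact_A.1⟩
  have hB : MinOff p (V.map f) (P.map f) B :=
    { le := hBA.trans (map_mono e.A_P)
      elem := H10.elementaryAbelian_of_le hel hBA
      ne := hBne
      off := hBoff
      strict := fun C hCB hC1 hC2 => by
        by_contra hno
        rw [not_lt] at hno
        exact hC2 (Subgroup.eq_of_le_of_card_ge hCB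
          (hmin ⟨hCB.trans hBA, hC1, hno⟩ (Subgroup.card_le_of_le hCB))) }
  suffices he : B = A.map f by rwa [← he]
  set B₀ := A ⊓ B.comap f
  have hB₀ : B₀.map f = B := le_antisymm (map_le_iff_le_comap.2 inf_le_right) fun b hb => by
    obtain ⟨a, ha, rfl⟩ := hBA hb
    exact mem_map_of_mem f ⟨ha, hb⟩
  have hB₀P : B₀ ≤ P := inf_le_left.trans e.A_P
  by_contra hne'
  have h1 := e.off.strict B₀ inf_le_left (fun h => hBne (by rw [← hB₀, h, Subgroup.map_bot]))
    (fun h => hne' (by rw [← hB₀, h]))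
  refine h1.not_ge ?_
  rw [e.card_fx_map hB₀P, card_map_mul_ker f e.ker_le, ← e.card_map hB₀P, hB₀, ← mul_assoc]
  exact Nat.mul_le_mul_right _ (hBoff.trans (Nat.mul_le_mul_left _
    (Subgroup.card_le_of_le (e.lifted hB hBA))))

/-- Vectors whose image is fixed by `A` are fixed by `A`. -/
theorem lift_A {v : G} (hv : v ∈ V) (h : f v ∈ fx (V.map f) (A.map f)) : v ∈ fx V A := by
  rw [e.exact_A.2] at h
  obtain ⟨u, hu, hue⟩ := h
  have hk : u⁻¹ * v ∈ f.ker := by rw [MonoidHom.mem_ker, map_mul, map_inv, hue, inv_mul_cancel]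
  have := mul_mem hu (e.ker_fx e.A_P hk)
  rwa [mul_inv_cancel_left] at this

end Ext

end H80.MP
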