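import Cfsg.Agent.H80.MP.Ext

/-!
In a central extension of a module with an offender, a Sylow subgroup fixes a vector outside the
kernel.
-/

set_option autoImplicit false
set_option linter.unusedSectionVars false
set_option linter.style.haveILetI false

open Subgroup
open scoped commutatorElement MatrixGroups IsMulCommutative
open H70 (cj)
open H78.PMin

namespace H80.MP

variable {G H : Type*} [Group G] [Finite G] [Group H] [Finite H] {p : ℕ} [Fact p.Prime]

namespace Ext

variable {f : G →* H} {V P T M A : Subgroup G} (e : Ext p f V P T M A)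
include e

theorem false_of (hZ : fx V T ≤ f.ker) : False := by
  classical
  haveI : IsMulCommutative ↥V := e.elem.1
  let c : Ctx p (V.map f) (P.map f) (T.map f) (M.map f) (A.map f) :=
    ⟨e.env, e.faith', e.minOff_map⟩
  have hTp : IsPGroup p T := by
    intro x
    obtain ⟨k, hk⟩ := e.env.pm.pgroup ⟨f x, mem_map_of_mem f x.2⟩
    refine ⟨k, Subtype.ext (e.inj (e.T_le (pow_mem x.2 _)) (one_mem _) ?_)⟩
    simpa using congrArg Subtype.val hk
  set N := T ⊓ normalizer (A : Set G) with hN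
  have hNp : IsPGroup p N := hTp.to_inf_left
  have hNV : N ≤ normalizer (V : Set G) := inf_le_left.trans (e.T_le.trans e.norm)
  have hNX : N ≤ normalizer ((fx V A : Subgroup G) : Set G) :=
    (le_inf hNV (inf_le_right.trans (H75.normalizer_le_normalizer_centralizer A))).trans
      (H75.normalizer_inf_le_normalizer_inf _ _)
  obtain ⟨d, hd, hd1, hdN⟩ := exists_fixed_elem e.off.elem hNp inf_le_right e.off.ne
  have hXne : fx V A ≠ V := fun he => e.off.not_le e.faith fun a ha =>
    mem_centralizer_iff.2 fun v hv => (fx_comm (he.ge hv) ha).symm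
  obtain ⟨v, hv, hvX, hvN⟩ := exists_fixed_coset e.elem hNp hNV hNX inf_le_left hXne
  have hdP : d ∈ P := e.A_P hd
  set u := ⁅d, v⁆ with hu
  have huX : u ∈ fx V A := e.quad_A d hd v hv
  -- `N` fixes `u`
  have hfixu : ∀ n ∈ N, n * u * n⁻¹ = u := by
    intro n hn
    have h1 : n * u * n⁻¹ = ⁅d, ⁅n, v⁆ * v⁆ := by
      rw [hu, commutatorElement_def n v, inv_mul_cancel_right,
        show n * ⁅d, v⁆ * n⁻¹ = ⁅n * d * n⁻¹, n * v * n⁻¹⁆ by
          simp only [commutatorElement_def]; group,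
        hdN n hn, mul_inv_cancel_right]
    rw [h1, comm_mul e.elem (e.norm hdP) (hvN n hn).1 hv,
      commutatorElement_eq_one_iff_mul_comm.2 (fx_comm (hvN n hn) hd), one_mul]
  have hcV : ∀ {t x : G}, t ∈ T → x ∈ V → t * x * t⁻¹ ∈ V := fun ht hx =>
    H75.conj_mem_of_mem_normalizer (e.norm (e.T_le ht)) hx
  let F : ↥T ⧸ N.subgroupOf T → ↥V :=
    Quotient.lift (fun t : ↥T => (⟨(t : G) * u * (t : G)⁻¹, hcV t.2 huX.1⟩ : ↥V))
      fun t s hts => by
        have h1 : (t : G)⁻¹ * s ∈ N := by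
          have h := (QuotientGroup.leftRel_apply (s := N.subgroupOf T)).1 hts
          simpa [mem_subgroupOf] using h
        refine Subtype.ext ?_
        show (t : G) * u * (t : G)⁻¹ = s * u * (s : G)⁻¹
        conv_lhs => rw [← hfixu _ h1]
        group
  have hF : ∀ t : ↥T, (F (QuotientGroup.mk t) : G) = t * u * (t : G)⁻¹ := fun t => rfl
  letI : Fintype (↥T ⧸ N.subgroupOf T) := Fintype.ofFinite _
  set U : ↥V := ∏ q, F q with hU
  -- `T` fixes the product
  have hUfix : (U : G) ∈ fx V T := by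
    refine ⟨U.2, mem_centralizer_iff.2 fun s hs => ?_⟩
    let σ : ↥V →* ↥V := MonoidHom.mk' (fun x => ⟨s * x * s⁻¹, hcV hs x.2⟩) fun x y =>
      Subtype.ext (by push_cast; group)
    have h1 : σ U = U := by
      rw [hU, map_prod]
      refine Fintype.prod_equiv (MulAction.toPerm (⟨s, hs⟩ : ↥T)) _ _ fun q => ?_
      induction q using QuotientGroup.induction_on with
      | _ t =>
        refine Subtype.ext ?_
        show s * (F (QuotientGroup.mk t) : G) * s⁻¹ =
          (F (QuotientGroup.mk ((⟨s, hs⟩ : ↥T) * t)) : G)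
        rw [hF, hF]
        push_cast
        group
    exact mul_inv_eq_iff_eq_mul.1 (congrArg Subtype.val h1)
  have hfU : f (U : G) = 1 := MonoidHom.mem_ker.1 (hZ hUfix)
  -- the terms lie in members inside `T.map f`
  have hA'T : A.map f ≤ T.map f := map_mono e.A_le
  have hmem : ∀ t : ↥T, Mem (P.map f) (A.map f) (cj (f t) (A.map f)) := fun t =>
    c.cj_mem c.self_mem (mem_map_of_mem f (e.T_le t.2))
  have hcomm : ∀ t s : ↥T, Ctx.Comm (cj (f t) (A.map f)) (cj (f s) (A.map f)) := fun t s =>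
    c.comm_of_pgroup (hmem t) (hmem s) c.env.pm.pgroup
      (H78.PMin.cj_le (mem_map_of_mem f t.2) hA'T) (H78.PMin.cj_le (mem_map_of_mem f s.2) hA'T)
  have hfd : f d ∈ A.map f := mem_map_of_mem f hd
  have hfd1 : f d ≠ 1 := fun h => hd1 (e.inj hdP (one_mem _) (by rw [h, map_one]))
  have hfv : f v ∈ V.map f := mem_map_of_mem f hv
  have hmoved : f d * f v ≠ f v * f d := fun h =>
    hvX (e.lift_A hv (c.mem_fx_of_comm c.self_mem hfd hfd1 hfv h))
  -- distinct cosets give distinct members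
  have hne : ∀ t : ↥T, (QuotientGroup.mk t : ↥T ⧸ N.subgroupOf T) ≠ QuotientGroup.mk 1 →
      cj (f t) (A.map f) ≠ A.map f := by
    intro t ht he
    refine ht ?_
    rw [QuotientGroup.eq, mul_one, inv_mem_iff, mem_subgroupOf]
    refine ⟨t.2, mem_normalizer_iff_cj.2 (H70.eq_of_cj_le ?_)⟩
    rintro _ ⟨a, ha, rfl⟩
    show (t : G) * a * (t : G)⁻¹ ∈ A
    have h1 : f ((t : G) * a * (t : G)⁻¹) ∈ A.map f := by
      rw [← he]
      exact ⟨f a, mem_map_of_mem f ha, by simp⟩
    obtain ⟨a', ha', hae⟩ := h1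
    have htP := e.T_le t.2
    exact e.inj (e.A_P ha') (mul_mem (mul_mem htP (e.A_P ha)) (inv_mem htP)) hae ▸ ha'
  by_cases h2 : 2 < Nat.card (A.map f)
  · -- the opposite member fixes all other terms
    obtain ⟨L, g₀, -, -, -, hLP, K, iK, iKf, hK, ⟨b⟩⟩ := c.exists_block c.self_mem
    have hopp := c.opp_mem b hLP c.self_mem
    let φ : ↥V →* H := f.comp V.subtype
    set S := (fx (V.map f) b.opp).comap φ with hS
    have hrest : ∀ q : ↥T ⧸ N.subgroupOf T, q ≠ QuotientGroup.mk 1 → F q ∈ S := by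
      intro q hq
      induction q using QuotientGroup.induction_on with
      | _ t =>
        have hneq := hne t hq
        have hc1 : Ctx.Comm (A.map f) (cj (f t) (A.map f)) := by
          have := hcomm 1 t
          rwa [OneMemClass.coe_one, map_one, H70.cj_of_mem (one_mem (A.map f))] at this
        have hc2 := c.comm_opp b hLP hK h2 c.self_mem (hmem t) hneq.symm hc1
        have hne2 : b.opp ≠ cj (f t) (A.map f) := fun he => b.not_comm_opp (he ▸ hc1)
        obtain ⟨-, -, -, -, h5⟩ := c.comm_facts hopp (hmem t) hne2 hc2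
        show f ((F (QuotientGroup.mk t) : ↥V) : G) ∈ fx (V.map f) b.opp
        rw [hF, hu, show (t : G) * ⁅d, v⁆ * (t : G)⁻¹ =
          ⁅(t : G) * d * (t : G)⁻¹, (t : G) * v * (t : G)⁻¹⁆ by
            simp only [commutatorElement_def]; group, map_commutatorElement]
        exact h5 _ ⟨f d, hfd, by simp⟩ _ (mem_map_of_mem f (hcV t.2 hv))
    have hUS : U ∈ S := by
      show f (U : G) ∈ fx (V.map f) b.opp
      rw [hfU]; exact one_mem _
    have h0 : F (QuotientGroup.mk 1) ∈ S := by
      have h1 := Finset.mul_prod_erase Finset.univ F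
        (Finset.mem_univ (QuotientGroup.mk 1 : ↥T ⧸ N.subgroupOf T))
      rw [← hU] at h1
      rw [← eq_mul_inv_iff_mul_eq] at h1
      rw [h1]
      exact mul_mem hUS (inv_mem (prod_mem fun q hq => hrest q (Finset.ne_of_mem_erase hq)))
    have h3 : ⁅f d, f v⁆ ∈ fx (V.map f) b.opp := by
      rw [← map_commutatorElement]
      have h4 : f ((F (QuotientGroup.mk 1) : ↥V) : G) ∈ fx (V.map f) b.opp := h0
      rwa [hF, OneMemClass.coe_one, one_mul, inv_one, mul_one] at h4
    have h5 : ⁅f d, f v⁆ ∈ fx (V.map f) L := by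
      rw [b.fx_eq]
      exact ⟨c.quad c.self_mem _ hfd _ hfv, h3⟩
    have h6 := (b.mem_fx_iff (c.quad c.self_mem) hfv).2 (b.snd_zero_of_commute hfd hfd1 hfv h5)
    exact hvX (e.lift_A hv h6)
  -- transvections
  have hA2 : Nat.card (A.map f) = 2 := by
    have := (one_lt_card_iff_ne_bot _).2 e.minOff_map.ne
    omega
  have hp2 : p = 2 := by
    obtain ⟨k, hk⟩ := IsPGroup.iff_card.1 e.minOff_map.pgroup
    rw [hA2] at hk
    have h0 : k ≠ 0 := fun h => by rw [h, pow_zero] at hk; omega
    exact (Nat.prime_dvd_prime_iff_eq Fact.out Nat.prime_two).1 (hk ▸ dvd_pow_self p h0)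
  subst hp2
  have hzA : zpowers d = A := by
    refine Subgroup.eq_of_le_of_card_ge (zpowers_le.2 hd) ?_
    rw [← e.card_map e.A_P, hA2, Nat.card_zpowers]
    by_contra hlt
    have := (isOfFinOrder_of_finite d).orderOf_pos
    exact hd1 (orderOf_eq_one_iff.1 (by omega))
  let x : ↥T → Tv (P.map f) (A.map f) := fun t => ⟨f ((t : G) * d * (t : G)⁻¹), by
    rw [show zpowers (f ((t : G) * d * (t : G)⁻¹)) = cj (f t) (A.map f) by
      rw [← hzA, MonoidHom.map_zpowers, H70.cj, MonoidHom.map_zpowers]; simp]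
    exact hmem t⟩
  have hxN : ∀ t s : ↥T, (x t : Tv (P.map f) (A.map f)) = x s →
      (QuotientGroup.mk t : ↥T ⧸ N.subgroupOf T) = QuotientGroup.mk s := by
    intro t s hts
    have h1 : f ((t : G) * d * (t : G)⁻¹) = f ((s : G) * d * (s : G)⁻¹) := congrArg Subtype.val hts
    have htP := e.T_le t.2
    have hsP := e.T_le s.2
    have h2 := e.inj (mul_mem (mul_mem htP hdP) (inv_mem htP))
      (mul_mem (mul_mem hsP hdP) (inv_mem hsP)) h1
    rw [QuotientGroup.eq, mem_subgroupOf]
    refine ⟨(t⁻¹ * s).2, centralizer_le_normalizer _ (mem_centralizer_iff.2 fun a ha => ?_)⟩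
    rw [← hzA] at ha
    obtain ⟨j, rfl⟩ := mem_zpowers_iff.1 ha
    refine (Commute.zpow_left ?_ j).eq
    push_cast
    show d * ((t : G)⁻¹ * s) = (t : G)⁻¹ * s * d
    calc d * ((t : G)⁻¹ * s) = (t : G)⁻¹ * ((t : G) * d * (t : G)⁻¹) * s := by group
      _ = (t : G)⁻¹ * ((s : G) * d * (s : G)⁻¹) * s := by rw [h2]
      _ = _ := by group
  let σ : ↥T ⧸ N.subgroupOf T → Tv (P.map f) (A.map f) := fun q => x q.out
  have hσ : Function.Injective σ := fun q q' h => by
    have := hxN _ _ h
    rwa [QuotientGroup.out_eq', QuotientGroup.out_eq'] at this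
  have hctr : ∀ q, f ((F q : ↥V) : G) = c.ctr hA2 (σ q) := by
    intro q
    conv_lhs => rw [← QuotientGroup.out_eq' q, hF]
    set t := q.out
    have htv : f ((t : G) * v * (t : G)⁻¹) ∈ V.map f := mem_map_of_mem f (hcV t.2 hv)
    have h1 := c.comm_eq hA2 (σ q) htv
    rw [if_neg] at h1
    · rw [← h1, hu, show (t : G) * ⁅d, v⁆ * (t : G)⁻¹ =
        ⁅(t : G) * d * (t : G)⁻¹, (t : G) * v * (t : G)⁻¹⁆ by
          simp only [commutatorElement_def]; group, map_commutatorElement]
    · show phi (f ((t : G) * d * (t : G)⁻¹)) _ ≠ 0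
      rw [map_mul, map_mul, map_mul, map_mul, map_inv, phi_cj]
      exact fun h => hmoved (phi_eq_zero.1 h)
  obtain ⟨z, hz⟩ := c.indep_sum hA2 (S := Finset.univ.image σ)
    (Finset.univ_nonempty.image σ) (by
      intro a ha b hb
      rw [Finset.mem_image] at ha hb
      obtain ⟨q, -, rfl⟩ := ha
      obtain ⟨q', -, rfl⟩ := hb
      exact c.phi_of_comm hA2 (hcomm q.out q'.out _ ⟨f d, hfd, by simp [σ, x]⟩ _ ⟨f d, hfd, by simp [σ, x]⟩))
  refine hz ?_
  let Φ : ↥V →* Multiplicative (ZMod 2) :=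
    MonoidHom.mk' (fun w => Multiplicative.ofAdd (phi (z : H) (f (w : G)))) fun a b => by
      rw [Subgroup.coe_mul, map_mul,
        c.phi_mul hA2 z (mem_map_of_mem f a.2) (mem_map_of_mem f b.2), ofAdd_add]
  have h1 : Φ U = 1 := by
    show Multiplicative.ofAdd (phi (z : H) (f (U : G))) = 1
    rw [hfU, c.phi_one hA2, ofAdd_zero]
  rw [hU, map_prod] at h1
  have h4 := congrArg Multiplicative.toAdd h1
  rw [toAdd_prod, toAdd_one] at h4
  rw [Finset.sum_image hσ.injOn, ← h4]
  exact Finset.sum_congr rfl fun q _ => by rw [← hctr q]; rfl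

end Ext

end H80.MP
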