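import Cfsg.Agent.H80.MP.Fixed

/-!
A faithful `p`-minimal group with trivial `p`-core and an offender moves the fixed points of its
Sylow subgroup.
-/

set_option autoImplicit false
set_option linter.unusedSectionVars false
set_option linter.style.haveILetI false

open Subgroup
open scoped commutatorElement
open H70 (cj)
open H78.PMin

namespace H80.MP

variable {G : Type*} [Group G] [Finite G] {p : ℕ} [Fact p.Prime]

theorem map_fx_subgroupOf {N V : Subgroup G} (hV : V ≤ N) (B : Subgroup ↥N) :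
    (fx (V.subgroupOf N) B).map N.subtype = fx V (B.map N.subtype) := by
  refine le_antisymm ?_ fun v hv => ?_
  · rintro _ ⟨x, hx, rfl⟩
    refine ⟨hx.1, mem_centralizer_iff.2 ?_⟩
    rintro _ ⟨b, hb, rfl⟩
    exact congrArg Subtype.val (fx_comm hx hb)
  · refine ⟨⟨v, hV hv.1⟩, ⟨hv.1, mem_centralizer_iff.2 fun b hb => Subtype.ext ?_⟩, rfl⟩
    exact fx_comm hv (mem_map_of_mem N.subtype hb)

theorem card_subgroupOf {N X : Subgroup G} (h : X ≤ N) : Nat.card (X.subgroupOf N) = Nat.card X :=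
  Nat.card_congr (subgroupOfEquivOfLe h).toEquiv

theorem map_subgroupOf_eq {N X : Subgroup G} (h : X ≤ N) :
    (X.subgroupOf N).map N.subtype = X := by
  rw [subgroupOf_map_subtype, inf_of_le_left h]

theorem pm_subgroupOf {N P T M : Subgroup G} (h : PM p P T M) (hP : P ≤ N) :
    PM p (P.subgroupOf N) (T.subgroupOf N) (M.subgroupOf N) where
  sylow := ⟨comap_mono h.T_le, by
    rw [card_subgroupOf hP, card_subgroupOf (h.T_le.trans hP)]; exact h.sylow.2⟩
  le_M := comap_mono h.le_M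
  M_le := comap_mono h.M_le
  M_ne := fun he => h.M_ne <| by
    rw [← map_subgroupOf_eq (h.M_le.trans hP), he, map_subgroupOf_eq hP]
  uniq := fun K hTK hKP hne => by
    have h1 := h.uniq (K.map N.subtype)
      ((map_subgroupOf_eq (h.T_le.trans hP)).ge.trans (map_mono hTK))
      ((map_mono hKP).trans (map_subgroupOf_eq hP).le)
      (fun he => hne (map_injective N.subtype_injective (he.trans (map_subgroupOf_eq hP).symm)))
    exact fun x hx => h1 (mem_map_of_mem N.subtype hx)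
  not_norm := fun hn => h.not_norm <| H75.le_normalizer_of_conj fun x hx t ht => by
    have h1 := H75.conj_mem_of_mem_normalizer
      (hn (show (⟨x, hP hx⟩ : ↥N) ∈ P.subgroupOf N from hx))
      (show (⟨t, hP (h.T_le ht)⟩ : ↥N) ∈ T.subgroupOf N from ht)
    exact h1

theorem core_subgroupOf {N P : Subgroup G} (hP : P ≤ N) (h : Cfsg.pCoreOf p P = ⊥) :
    Cfsg.pCoreOf p (P.subgroupOf N) = ⊥ := by
  have h1 : (Cfsg.pCoreOf p (P.subgroupOf N)).map N.subtype ≤ Cfsg.pCoreOf p P := by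
    refine H75.le_pCoreOf ((map_mono (H75.pCoreOf_le _)).trans (map_subgroupOf_eq hP).le) ?_
      ((H75.isPGroup_pCoreOf _).map _)
    refine H75.le_normalizer_of_conj fun x hx y hy => ?_
    obtain ⟨y, hy, rfl⟩ := hy
    exact ⟨_, H75.conj_mem_of_mem_normalizer
      (H75.le_normalizer_pCoreOf (P.subgroupOf N) (show (⟨x, hP hx⟩ : ↥N) ∈ P.subgroupOf N from hx))
      hy, rfl⟩
  rw [h, le_bot_iff] at h1
  exact map_injective N.subtype_injective (h1.trans (Subgroup.map_bot _).symm)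

theorem core_map {H : Type*} [Group H] [Finite H] (f : G →* H) {P T M : Subgroup G}
    (hf : Set.InjOn f P) (hpm : PM p P T M) (h : Cfsg.pCoreOf p P = ⊥) :
    Cfsg.pCoreOf p (P.map f) = ⊥ := by
  set R := Cfsg.pCoreOf p (P.map f) with hR
  set R₀ := P ⊓ R.comap f
  have hRT : R ≤ T.map f := (pm_map f hf hpm).pCore_le
  have hR₀ : R₀ ≤ Cfsg.pCoreOf p P := by
    refine H75.le_pCoreOf inf_le_left ?_ (hpm.pgroup.to_le fun x hx => ?_)
    · refine H75.le_normalizer_of_conj fun x hx y hy => Subgroup.mem_inf.2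
        ⟨mul_mem (mul_mem hx (Subgroup.mem_inf.1 hy).1) (inv_mem hx), ?_⟩
      show f (x * y * x⁻¹) ∈ R
      rw [map_mul, map_mul, map_inv]
      exact H75.conj_mem_of_mem_normalizer
        (H75.le_normalizer_pCoreOf (P.map f) (mem_map_of_mem f hx)) hy.2
    · obtain ⟨t, ht, he⟩ := hRT hx.2
      exact hf (hpm.T_le ht) hx.1 he ▸ ht
  rw [h] at hR₀
  rw [Subgroup.eq_bot_iff_forall]
  intro y hy
  obtain ⟨x, hx, rfl⟩ := (H75.pCoreOf_le (P.map f)) hy
  rw [Subgroup.mem_bot.1 (hR₀ ⟨hx, hy⟩), map_one]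

/-- The elements moving `V` into the kernel are trivial. -/
theorem faith_map {H : Type*} [Group H] (f : G →* H) {V P : Subgroup G}
    (hV : Cfsg.IsElementaryAbelian p V) (hPV : P ≤ normalizer (V : Set G))
    (hfaith : P ⊓ centralizer (V : Set G) = ⊥) (hcore : Cfsg.pCoreOf p P = ⊥)
    (hkV : f.ker ≤ V) (hkP : f.ker ≤ centralizer (P : Set G)) :
    P.map f ⊓ centralizer ((V.map f : Subgroup H) : Set H) = ⊥ := by
  set R := P ⊓ (centralizer ((V.map f : Subgroup H) : Set H)).comap f with hR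
  have hdef : ∀ x ∈ R, ∀ v ∈ V, ⁅x, v⁆ ∈ f.ker := fun x hx v hv => by
    rw [MonoidHom.mem_ker, map_commutatorElement, commutatorElement_eq_one_iff_mul_comm]
    exact (mem_centralizer_iff.1 hx.2 _ (mem_map_of_mem f hv)).symm
  have hpgr : IsPGroup p R := by
    rintro ⟨x, hx⟩
    refine ⟨1, Subtype.ext ?_⟩
    rw [pow_one]
    show x ^ p = 1
    have key : ∀ v ∈ V, ∀ n : ℕ, x ^ n * v * (x ^ n)⁻¹ = ⁅x, v⁆ ^ n * v := by
      intro v hv n
      induction n with
      | zero => simp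
      | succ n ih =>
        have hfix : x * ⁅x, v⁆ ^ n = ⁅x, v⁆ ^ n * x :=
          mem_centralizer_iff.1 (hkP (pow_mem (hdef x hx v hv) n)) x hx.1
        calc x ^ (n + 1) * v * (x ^ (n + 1))⁻¹ = x * (x ^ n * v * (x ^ n)⁻¹) * x⁻¹ := by
              rw [pow_succ']; group
          _ = x * ⁅x, v⁆ ^ n * v * x⁻¹ := by rw [ih]; group
          _ = ⁅x, v⁆ ^ n * (x * v * x⁻¹) := by rw [hfix]; group
          _ = ⁅x, v⁆ ^ n * (⁅x, v⁆ * v) := by
            rw [show x * v * x⁻¹ = ⁅x, v⁆ * v by rw [commutatorElement_def]; group]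
          _ = _ := by rw [pow_succ, mul_assoc]
    have h1 : x ^ p ∈ P ⊓ centralizer (V : Set G) := by
      refine Subgroup.mem_inf.2 ⟨pow_mem hx.1 p, mem_centralizer_iff.2 fun v hv => ?_⟩
      have h2 := key v hv p
      rw [hV.2 _ (hkV (hdef x hx v hv)), one_mul] at h2
      exact (mul_inv_eq_iff_eq_mul.1 h2).symm
    rwa [hfaith, Subgroup.mem_bot] at h1
  have hRn : P ≤ normalizer (R : Set G) := H75.le_normalizer_of_conj fun x hx y hy => by
    refine Subgroup.mem_inf.2
      ⟨mul_mem (mul_mem hx (Subgroup.mem_inf.1 hy).1) (inv_mem hx), mem_centralizer_iff.2 ?_⟩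
    rintro _ ⟨v, hv, rfl⟩
    have h1 := mem_centralizer_iff.1 hy.2 _ (mem_map_of_mem f
      (H75.conj'_mem_of_mem_normalizer (hPV hx) hv))
    rw [map_mul, map_mul, map_inv] at h1
    show f v * f (x * y * x⁻¹) = f (x * y * x⁻¹) * f v
    rw [map_mul, map_mul, map_inv]
    calc f v * (f x * f y * (f x)⁻¹)
        = f x * ((f x)⁻¹ * f v * f x * f y) * (f x)⁻¹ := by group
      _ = f x * (f y * ((f x)⁻¹ * f v * f x)) * (f x)⁻¹ := by rw [h1]
      _ = _ := by group
  have hR1 : R ≤ ⊥ := hcore ▸ H75.le_pCoreOf inf_le_left hRn hpgr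
  rw [Subgroup.eq_bot_iff_forall]
  rintro _ ⟨⟨x, hx, rfl⟩, hc⟩
  rw [Subgroup.mem_bot.1 (hR1 ⟨hx, hc⟩), map_one]

universe u

/-- **The fixed points of a Sylow subgroup are not all fixed by `P`.** -/
theorem fixed_moved : ∀ (n : ℕ) {G : Type u} [Group G] [Finite G] {p : ℕ} [Fact p.Prime]
    (V P T M : Subgroup G), Nat.card V = n → Cfsg.IsElementaryAbelian p V →
    P ≤ normalizer (V : Set G) → P ⊓ centralizer (V : Set G) = ⊥ → PM p P T M →
    Cfsg.pCoreOf p P = ⊥ →
    (∃ A : Subgroup G, A ≤ P ∧ Cfsg.IsElementaryAbelian p A ∧ A ≠ ⊥ ∧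
      Nat.card V ≤ Nat.card A * Nat.card (fx V A)) →
    ¬ fx V T ≤ centralizer (P : Set G) := by
  intro n
  induction n using Nat.strong_induction_on with
  | _ n ih =>
  intro G _ _ p _ V P T₀ M₀ hn hV hPV hfaith hpm₀ hcore hoff hZ₀
  -- a minimal offender in a Sylow subgroup
  obtain ⟨A₀, ⟨hA₀P, hA₀el, hA₀ne, hA₀off⟩, hmin⟩ := Set.Finite.exists_minimalFor
    (fun A : Subgroup G => Nat.card A)
    {A : Subgroup G | A ≤ P ∧ Cfsg.IsElementaryAbelian p A ∧ A ≠ ⊥ ∧
      Nat.card V ≤ Nat.card A * Nat.card (fx V A)} (Set.toFinite _) hoff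
  have hA : MinOff p V P A₀ :=
    { le := hA₀P
      elem := hA₀el
      ne := hA₀ne
      off := hA₀off
      strict := fun C hC h1 h2 => by
        by_contra hno
        rw [not_lt] at hno
        exact h2 (Subgroup.eq_of_le_of_card_ge hC (hmin
          ⟨hC.trans hA₀P, H10.elementaryAbelian_of_le hA₀el hC, h1, hno⟩
          (Subgroup.card_le_of_le hC))) }
  obtain ⟨g, hg, hAT⟩ := exists_conj_into hpm₀.sylow hA.le hA.pgroup
  have hpm := hpm₀.conj_mem hg
  set A := A₀
  set T := cj g T₀ with hT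
  set M := cj g M₀
  set Z := fx V T with hZdef
  have hZP : Z ≤ centralizer (P : Set G) := by
    intro z hz
    rw [hZdef, hT, ← cj_fx (hPV hg), H70.mem_cj] at hz
    have h1 := H75.conj_mem_of_mem_normalizer
      ((le_normalizer.trans (H75.normalizer_le_normalizer_centralizer P)) hg) (hZ₀ hz)
    rwa [show g * (g⁻¹ * z * g) * g⁻¹ = z by group] at h1
  have hVne : V ≠ ⊥ := fun h => hA.not_le hfaith fun a _ => mem_centralizer_iff.2 fun v hv => by
    rw [h, SetLike.mem_coe, Subgroup.mem_bot] at hv; simp [hv]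
  have hZne : Z ≠ ⊥ := fun h => by
    obtain ⟨z, hz, hz1, hzT⟩ := exists_fixed_elem hV hpm.pgroup (hpm.T_le.trans hPV) hVne
    exact hz1 (Subgroup.mem_bot.1 (h ▸ (⟨hz, mem_centralizer_iff.2 hzT⟩ : z ∈ Z)))
  -- pass to the normaliser of the fixed points
  set N := normalizer (Z : Set G) with hN
  have hVN : V ≤ N := le_normalizer_of_le_elem hV le_rfl inf_le_left
  have hPN : P ≤ N := (Subgroup.le_centralizer_iff.1 hZP).trans (centralizer_le_normalizer _)
  have hZN : Z ≤ N := le_normalizer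
  haveI : (Z.subgroupOf N).Normal := normal_subgroupOf_of_le_normalizer le_rfl
  set f := QuotientGroup.mk' (Z.subgroupOf N) with hf
  have hker : f.ker = Z.subgroupOf N := QuotientGroup.ker_mk' _
  set V₁ := V.subgroupOf N with hV₁
  set P₁ := P.subgroupOf N with hP₁
  set T₁ := T.subgroupOf N with hT₁
  set M₁ := M.subgroupOf N with hM₁
  set A₁ := A.subgroupOf N with hA₁
  have hV₁el : Cfsg.IsElementaryAbelian p V₁ :=
    ⟨⟨⟨fun a b => Subtype.ext (Subtype.ext (H10.comm_of_elem hV a.2 b.2))⟩⟩,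
      fun a ha => Subtype.ext (by push_cast; exact hV.2 _ ha)⟩
  have hPV₁ : P₁ ≤ normalizer (V₁ : Set ↥N) := H75.le_normalizer_of_conj fun x hx v hv =>
    show (x : G) * v * (x : G)⁻¹ ∈ V from H75.conj_mem_of_mem_normalizer (hPV hx) hv
  have hfaith₁ : P₁ ⊓ centralizer (V₁ : Set ↥N) = ⊥ := by
    rw [Subgroup.eq_bot_iff_forall]
    rintro x ⟨hx, hxc⟩
    have h1 : (x : G) ∈ P ⊓ centralizer (V : Set G) := Subgroup.mem_inf.2 ⟨hx,
      mem_centralizer_iff.2 fun v hv =>
        congrArg Subtype.val (mem_centralizer_iff.1 hxc ⟨v, hVN hv⟩ hv)⟩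
    rw [hfaith, Subgroup.mem_bot] at h1
    exact Subtype.ext h1
  have hcore₁ := core_subgroupOf hPN hcore
  have hkV : f.ker ≤ V₁ := by rw [hker]; exact comap_mono inf_le_left
  have hkP : f.ker ≤ centralizer (P₁ : Set ↥N) := fun z hz => mem_centralizer_iff.2 fun x hx =>
    Subtype.ext (mem_centralizer_iff.1 (hZP ((hker ▸ hz : z ∈ Z.subgroupOf N))) _ hx)
  have hcardfx : ∀ B : Subgroup ↥N,
      Nat.card (fx V₁ B) = Nat.card (fx V (B.map N.subtype)) := fun B => by
    rw [← map_fx_subgroupOf hVN, card_map_of_injective N.subtype_injective]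
  have hAN : A ≤ N := hA.le.trans hPN
  have hA1 : MinOff p V₁ P₁ A₁ :=
    { le := comap_mono hA.le
      elem := ⟨⟨⟨fun a b => Subtype.ext (Subtype.ext (H10.comm_of_elem hA.elem a.2 b.2))⟩⟩,
        fun a ha => Subtype.ext (by push_cast; exact hA.elem.2 _ ha)⟩
      ne := fun h => hA.ne (by rw [← map_subgroupOf_eq hAN, ← hA₁, h, Subgroup.map_bot])
      off := by
        rw [hcardfx, hA₁, map_subgroupOf_eq hAN, hV₁, card_subgroupOf hVN, card_subgroupOf hAN]
        exact hA.off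
      strict := fun B hB h1 h2 => by
        rw [hcardfx, ← card_map_of_injective (K := B) N.subtype_injective, hV₁, card_subgroupOf hVN]
        exact hA.strict _ ((map_mono hB).trans (map_subgroupOf_eq hAN).le)
          (fun h => h1 (map_injective N.subtype_injective (h.trans (Subgroup.map_bot _).symm)))
          (fun h => h2 (map_injective N.subtype_injective (h.trans (map_subgroupOf_eq hAN).symm))) }
  have hinj : Set.InjOn f P₁ := by
    intro x hx y hy hxy
    replace hx : x ∈ P₁ := hx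
    replace hy : y ∈ P₁ := hy
    have hk : x⁻¹ * y ∈ f.ker := by rw [MonoidHom.mem_ker, map_mul, map_inv, hxy, inv_mul_cancel]
    have h1 : x⁻¹ * y ∈ P₁ ⊓ centralizer (V₁ : Set ↥N) :=
      Subgroup.mem_inf.2 ⟨mul_mem (inv_mem hx) hy, mem_centralizer_iff.2 fun v hv =>
        H10.comm_of_elem hV₁el hv (hkV hk)⟩
    rw [hfaith₁, Subgroup.mem_bot] at h1
    exact inv_mul_eq_one.1 h1
  have hpm₁ : PM p P₁ T₁ M₁ := pm_subgroupOf hpm hPN
  have hfaith' := faith_map f hV₁el hPV₁ hfaith₁ hcore₁ hkV hkP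
  have hpm' := pm_map f hinj hpm₁
  have hcore' := core_map f hinj hpm₁ hcore₁
  -- elementary images
  have hel : ∀ {X : Subgroup ↥N}, Cfsg.IsElementaryAbelian p X →
      Cfsg.IsElementaryAbelian p (X.map f) := by
    intro X h
    refine ⟨⟨⟨?_⟩⟩, ?_⟩
    · rintro ⟨_, a, ha, rfl⟩ ⟨_, b, hb, rfl⟩
      exact Subtype.ext (show f a * f b = f b * f a by
        rw [← map_mul, H10.comm_of_elem h ha hb, map_mul])
    · rintro _ ⟨a, ha, rfl⟩
      rw [← map_pow, h.2 a ha, map_one]
  have hPW : P₁.map f ≤ normalizer ((V₁.map f : Subgroup (↥N ⧸ Z.subgroupOf N)) : Set _) :=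
    (map_mono hPV₁).trans (le_normalizer_map f)
  -- the quotient is smaller
  have hlt : Nat.card (V₁.map f) < n := by
    rw [← hn, ← card_subgroupOf hVN, ← hV₁, card_map_mul_ker f hkV]
    refine lt_mul_of_one_lt_right Nat.card_pos ?_
    rw [one_lt_card_iff_ne_bot, hker]
    intro h
    exact hZne (by rw [← map_subgroupOf_eq hZN, h, Subgroup.map_bot])
  have hoffW : Nat.card (V₁.map f) ≤ Nat.card (A₁.map f) * Nat.card (fx (V₁.map f) (A₁.map f)) := by
    have hk : f.ker ≤ fx V₁ A₁ :=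
      le_inf hkV (hkP.trans (centralizer_le (SetLike.coe_subset_coe.2 hA1.le)))
    have hle : (fx V₁ A₁).map f ≤ fx (V₁.map f) (A₁.map f) := by
      rintro _ ⟨v, hv, rfl⟩
      refine ⟨mem_map_of_mem f hv.1, mem_centralizer_iff.2 ?_⟩
      rintro _ ⟨a, ha, rfl⟩
      rw [← map_mul, fx_comm hv ha, map_mul]
    have h := hA1.off
    rw [card_map_mul_ker f hk, card_map_mul_ker f hkV, ← mul_assoc] at h
    rw [card_map_injOn f (hinj.mono hA1.le)]
    exact (Nat.le_of_mul_le_mul_right h Nat.card_pos).trans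
      (Nat.mul_le_mul_left _ (Subgroup.card_le_of_le hle))
  have hA'ne : A₁.map f ≠ ⊥ := by
    rw [← one_lt_card_iff_ne_bot, card_map_injOn f (hinj.mono hA1.le)]
    exact (one_lt_card_iff_ne_bot _).2 hA1.ne
  have hIH := ih _ hlt (V₁.map f) (P₁.map f) (T₁.map f) (M₁.map f) rfl (hel hV₁el) hPW hfaith'
    hpm' hcore' ⟨_, map_mono hA1.le, hel hA1.elem, hA'ne, hoffW⟩
  have henv : Env p (V₁.map f) (P₁.map f) (T₁.map f) (M₁.map f) :=
    { elem := hel hV₁el
      norm := hPW
      pm := hpm'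
      core_le := by rw [hcore']; exact bot_le
      hyp := hpm'.uniq _ (le_inf hpm'.T_le fun t ht => mem_centralizer_iff.2 fun z hz =>
          (fx_comm hz ht).symm) inf_le_left
        fun he => hIH (Subgroup.le_centralizer_iff.1 (inf_eq_left.1 he)) }
  refine Ext.false_of (e := ⟨hV₁el, hPV₁, hfaith₁, hkV, hkP, henv, hfaith', hA1,
    comap_mono hAT, hpm₁.T_le⟩) ?_
  rw [hker]
  exact fun z hz => show (z : G) ∈ Z from
    Subgroup.mem_inf.2 ⟨hz.1, mem_centralizer_iff.2 fun t ht =>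
      congrArg Subtype.val (mem_centralizer_iff.1 hz.2 ⟨t, hPN (hpm.T_le ht)⟩ ht)⟩

end H80.MP
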